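import Mathlib

/-!
At a smooth point some relations with nonzero Jacobian minor generate the conormal module.
-/

set_option autoImplicit false
set_option linter.style.haveILetI false

universe u

namespace Groth.Agent.SmoothStd

open MvPolynomial

theorem exists_minor {k : Type u} [Field k] {n : ℕ} {c : ℕ} (M : Matrix (Fin c) (Fin n) k)
    (h : LinearIndependent k M.row) :
    ∃ cols : Fin c ↪ Fin n, (M.submatrix id cols).det ≠ 0 := by
  classical
  obtain ⟨κ, a, ha, hsp, hli⟩ := exists_linearIndependent' k M.col
  haveI : Finite κ := Finite.of_injective a ha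
  haveI : Fintype κ := Fintype.ofFinite κ
  have hcard : Fintype.card κ = c := by
    have h1 := linearIndependent_iff_card_eq_finrank_span.mp hli
    rw [h1, Set.finrank, hsp, ← Matrix.rank_eq_finrank_span_cols, h.rank_matrix, Fintype.card_fin]
  let e : Fin c ≃ κ := (finCongr hcard.symm).trans (Fintype.equivFin κ).symm
  refine ⟨⟨a ∘ e, ha.comp e.injective⟩, ?_⟩
  have hcol : LinearIndependent k (M.submatrix id (a ∘ e)).col := hli.comp e e.injective
  rw [Matrix.linearIndependent_cols_iff_isUnit, Matrix.isUnit_iff_isUnit_det] at hcol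
  exact hcol.ne_zero

/-- A localized map which is split injective detects generators from residue fields. -/
theorem exists_smul_mem {A : Type u} [CommRing A] (q : Ideal A) [q.IsPrime] {C F O : Type u} [AddCommGroup C]
    [Module A C] [Module.Finite A C] [AddCommGroup F] [Module A F] [AddCommGroup O] [Module A O]
    (d : C →ₗ[A] F) (g : F →ₗ[A] O) (hex : Function.Exact d g) (hg : Function.Surjective g)
    (hker : ∀ x : C, d x = 0 → ∃ s ∉ q, s • x = 0)
    (hproj : Module.Projective (Localization.AtPrime q) (LocalizedModule q.primeCompl O))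
    (N : Submodule A C) (hN : ∀ x : C, ∃ s ∉ q, ∃ y ∈ N, s • d x - d y ∈ q • (⊤ : Submodule A F))
    (x : C) : ∃ s ∉ q, s • x ∈ N := by
  let L := Localization q.primeCompl
  let dL : LocalizedModule q.primeCompl C →ₗ[L] LocalizedModule q.primeCompl F := LocalizedModule.map q.primeCompl d
  let gL : LocalizedModule q.primeCompl F →ₗ[L] LocalizedModule q.primeCompl O := LocalizedModule.map q.primeCompl g
  have hexL : Function.Exact dL gL := LocalizedModule.map_exact q.primeCompl d g hex
  have hgL : Function.Surjective gL := IsLocalizedModule.map_surjective q.primeCompl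
    (LocalizedModule.mkLinearMap q.primeCompl F) (LocalizedModule.mkLinearMap q.primeCompl O) g hg
  have hdL : Function.Injective dL := by
    rw [injective_iff_map_eq_zero]
    intro z hz
    induction z using LocalizedModule.induction_on with
    | h m s =>
      change IsLocalizedModule.map q.primeCompl (LocalizedModule.mkLinearMap q.primeCompl C)
        (LocalizedModule.mkLinearMap q.primeCompl F) d (LocalizedModule.mk m s) = 0 at hz
      rw [IsLocalizedModule.map_LocalizedModules, ← LocalizedModule.zero_mk 1, LocalizedModule.mk_eq] at hz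
      obtain ⟨a, ha⟩ := hz
      rw [one_smul, smul_zero, smul_zero] at ha
      change (a : A) • d m = 0 at ha
      rw [← map_smul] at ha
      obtain ⟨b, hb, hbm⟩ := hker _ ha
      rw [← LocalizedModule.zero_mk 1, LocalizedModule.mk_eq]
      refine ⟨⟨b, hb⟩ * a, ?_⟩
      rw [one_smul, smul_zero, smul_zero, Submonoid.smul_def, Submonoid.coe_mul, mul_smul]
      exact hbm
  haveI : Module.Projective L (LocalizedModule q.primeCompl O) := hproj
  obtain ⟨σ, hσ⟩ := Module.projective_lifting_property gL LinearMap.id hgL
  let v : LocalizedModule q.primeCompl F →ₗ[L] LocalizedModule q.primeCompl F := LinearMap.id - σ.comp gL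
  have hv : ∀ z, v z ∈ LinearMap.range dL := fun z => by
    refine (hexL _).mp ?_
    simp only [v, LinearMap.sub_apply, LinearMap.id_apply, LinearMap.comp_apply, map_sub]
    rw [← LinearMap.comp_apply gL σ, hσ, LinearMap.id_apply, sub_self]
  let r : LocalizedModule q.primeCompl F →ₗ[L] LocalizedModule q.primeCompl C :=
    (LinearEquiv.ofInjective dL hdL).symm.toLinearMap.comp (LinearMap.codRestrict _ v hv)
  have hr : ∀ z, r (dL z) = z := fun z => by
    have h1 : v (dL z) = dL z := by
      simp only [v, LinearMap.sub_apply, LinearMap.id_apply, LinearMap.comp_apply,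
        hexL.apply_apply_eq_zero, map_zero, sub_zero]
    simp only [r, LinearMap.comp_apply, LinearEquiv.coe_coe, LinearEquiv.symm_apply_eq]
    exact Subtype.ext h1
  let mk := LocalizedModule.mkLinearMap q.primeCompl C
  let N' : Submodule L (LocalizedModule q.primeCompl C) := Submodule.localized' L q.primeCompl mk N
  let m : Ideal L := IsLocalRing.maximalIdeal (Localization.AtPrime q)
  have hmk : ∀ y : C, mk y ∈ N' ⊔ m • ⊤ := by
    intro y
    obtain ⟨s, hs, y', hy', hd⟩ := hN y
    have hu : IsUnit (algebraMap A L s) := IsLocalization.map_units L (⟨s, hs⟩ : q.primeCompl)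
    obtain ⟨w, hw⟩ := hu
    have h1 : ∀ t ∈ q • (⊤ : Submodule A F),
        (LocalizedModule.mkLinearMap q.primeCompl F t) ∈ m • (⊤ : Submodule L (LocalizedModule q.primeCompl F)) := by
      intro t ht
      refine Submodule.smul_induction_on ht (fun a ha f _ => ?_) (fun a b ha hb => ?_)
      · rw [map_smul, ← algebraMap_smul L a]
        refine Submodule.smul_mem_smul ?_ trivial
        exact (IsLocalization.AtPrime.to_map_mem_maximal_iff (Localization.AtPrime q) q a).mpr ha
      · rw [map_add]; exact add_mem ha hb
    have h2 : mk (s • y - y') ∈ m • (⊤ : Submodule L (LocalizedModule q.primeCompl C)) := by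
      have h := h1 _ (by rw [← map_smul, ← map_sub] at hd; exact hd)
      rw [← hr (mk (s • y - y'))]
      have hdm : dL (mk (s • y - y')) = LocalizedModule.mkLinearMap q.primeCompl F (d (s • y - y')) :=
        IsLocalizedModule.map_apply q.primeCompl mk (LocalizedModule.mkLinearMap q.primeCompl F) d _
      rw [hdm]
      exact Submodule.smul_top_le_comap_smul_top m r h
    have h3 : mk y = ((w⁻¹ : Lˣ) : L) • (mk (s • y - y') + mk y') := by
      rw [← map_add, sub_add_cancel, map_smul, ← algebraMap_smul L s, ← hw, smul_smul, Units.inv_mul, one_smul]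
    rw [h3]
    refine Submodule.smul_mem _ _ (add_mem (Submodule.mem_sup_right h2) (Submodule.mem_sup_left ?_))
    exact ⟨y', hy', 1, IsLocalizedModule.mk'_one _ _ _⟩
  have htop : (⊤ : Submodule L (LocalizedModule q.primeCompl C)) ≤ N' ⊔ m • ⊤ := by
    intro z _
    obtain ⟨⟨y, s⟩, rfl⟩ := IsLocalizedModule.mk'_surjective q.primeCompl mk z
    obtain ⟨w, hw⟩ := IsLocalization.map_units L s
    have h : IsLocalizedModule.mk' mk y s = ((w⁻¹ : Lˣ) : L) • mk y := by
      rw [← IsLocalizedModule.mk'_cancel' mk y s, Submonoid.smul_def, ← algebraMap_smul L (s : A), ← hw, smul_smul,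
        Units.inv_mul, one_smul]
    simp only [Function.uncurry_apply_pair, h]
    exact Submodule.smul_mem _ _ (hmk y)
  haveI : Module.Finite L (LocalizedModule q.primeCompl C) :=
    Module.Finite.of_isLocalizedModule q.primeCompl mk
  have hall : (⊤ : Submodule L (LocalizedModule q.primeCompl C)) ≤ N' :=
    Submodule.le_of_le_smul_of_le_jacobson_bot Module.Finite.fg_top
      (IsLocalRing.maximalIdeal_le_jacobson (⊥ : Ideal (Localization.AtPrime q))) htop
  obtain ⟨y, hy, s, hs⟩ := hall (show mk x ∈ ⊤ from trivial)
  rw [← IsLocalizedModule.mk'_one q.primeCompl mk x, IsLocalizedModule.mk'_eq_mk'_iff] at hs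
  obtain ⟨a, ha⟩ := hs
  rw [one_smul] at ha
  refine ⟨a * s, fun h => (Ideal.IsPrime.mem_or_mem ‹_› h).elim a.2 s.2, ?_⟩
  rw [mul_smul]
  change (a : A) • ((s : A) • x) ∈ N
  rw [show (a : A) • ((s : A) • x) = (a : A) • y from ha]
  exact N.smul_mem _ hy

end Groth.Agent.SmoothStd
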